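import Mathlib

/-! # Quadratic algebras in which `2` is invertible -/

set_option autoImplicit false

universe u

namespace Groth.Agent.DblCovLib

variable (A B : Type u) [CommRing A] [CommRing B] [Algebra A B]

/-- The algebra is free of rank two on `1` and a second element. -/
def IsQuadratic : Prop := ∃ b : Module.Basis (Fin 2) A B, b 0 = 1

variable {A B}

/-- `σ` is a conjugation of the quadratic algebra. -/
def IsConj (σ : B →+* B) : Prop :=
  (∀ a : A, σ (algebraMap A B a) = algebraMap A B a) ∧ ∀ x : B, x + σ x ∈ Set.range (algebraMap A B)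

theorem exists_coords (b : Module.Basis (Fin 2) A B) (h0 : b 0 = 1) (x : B) :
    ∃ p q : A, x = algebraMap A B p + q • b 1 := by
  refine ⟨b.repr x 0, b.repr x 1, ?_⟩
  conv_lhs => rw [← b.sum_repr x]
  rw [Fin.sum_univ_two, h0, Algebra.smul_def (b.repr x 0), mul_one]

theorem eq_zero_of_coords (b : Module.Basis (Fin 2) A B) (h0 : b 0 = 1) {p q : A}
    (h : algebraMap A B p + q • b 1 = 0) : p = 0 ∧ q = 0 := by
  have h' : p • b 0 + q • b 1 = 0 := by rwa [h0, Algebra.smul_def p, mul_one]
  have := congrArg b.repr h'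
  simp only [map_add, map_smul, b.repr_self, map_zero] at this
  exact ⟨by simpa using DFunLike.congr_fun this 0, by simpa using DFunLike.congr_fun this 1⟩

theorem algebraMap_injective (hB : IsQuadratic A B) : Function.Injective (algebraMap A B) := by
  obtain ⟨b, h0⟩ := hB
  rw [injective_iff_map_eq_zero]
  exact fun a ha => (eq_zero_of_coords b h0 (p := a) (q := 0) (by rw [ha, zero_smul, add_zero])).1

/-- A conjugation is unique. -/
theorem IsConj.unique_of_basis (hB : IsQuadratic A B) (h2 : IsUnit (2 : A)) {σ τ : B →+* B}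
    (hσ : IsConj (A := A) σ) (hτ : IsConj (A := A) τ)
    (hσi : ∀ x, σ x = x → x ∈ Set.range (algebraMap A B)) (hτi : ∀ x, τ x = x → x ∈ Set.range (algebraMap A B)) :
    σ = τ := by
  obtain ⟨b, h0⟩ := hB
  set ω := b 1 with hω
  obtain ⟨d, c, hdc⟩ := exists_coords b h0 (ω * ω)
  suffices h : ∀ ρ : B →+* B, IsConj (A := A) ρ → (∀ x, ρ x = x → x ∈ Set.range (algebraMap A B)) →
      ρ ω = algebraMap A B c - ω by
    refine RingHom.ext fun x => ?_
    obtain ⟨p, q, rfl⟩ := exists_coords b h0 x
    rw [Algebra.smul_def, map_add, map_add, map_mul, map_mul, hσ.1, hτ.1, hσ.1, hτ.1, h σ hσ hσi, h τ hτ hτi]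
  intro ρ hρ hρi
  obtain ⟨e, he⟩ := hρ.2 ω
  have hρω : ρ ω = algebraMap A B e - ω := by rw [he]; ring
  have h1 : ρ (ω * ω) = algebraMap A B d + c • ρ ω := by
    rw [hdc, map_add, hρ.1, Algebra.smul_def, map_mul, hρ.1, Algebra.smul_def, hω]
  rw [map_mul, hρω] at h1
  have h3 : algebraMap A B (e * e - c * e) + (2 * c - 2 * e) • ω = 0 := by
    have hdc' : ω * ω = algebraMap A B d + algebraMap A B c * ω := by rw [← Algebra.smul_def]; exact hdc
    simp only [Algebra.smul_def, map_sub, map_mul, map_ofNat] at h1 ⊢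
    linear_combination h1 - hdc'
  have h4 := (eq_zero_of_coords b h0 h3).2
  have : e = c := by
    refine h2.mul_left_cancel ?_
    linear_combination -h4
  rw [hρω, this]

/-- The conjugation of a quadratic algebra. -/
theorem exists_conj (hB : IsQuadratic A B) (h2 : IsUnit (2 : A)) :
    ∃ σ : B →+* B, IsConj (A := A) σ ∧ (∀ x, σ (σ x) = x) ∧ ∀ x, σ x = x → x ∈ Set.range (algebraMap A B) := by
  obtain ⟨b, h0⟩ := hB
  set ω := b 1 with hω
  obtain ⟨d, c, hdc⟩ := exists_coords b h0 (ω * ω)
  have hdc' : ω * ω = algebraMap A B d + algebraMap A B c * ω := by rw [← Algebra.smul_def]; exact hdc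
  let L : B →ₗ[A] B := b.constr A ![1, algebraMap A B c - ω]
  have hL : ∀ p q : A, L (algebraMap A B p + q • ω) = algebraMap A B p + q • (algebraMap A B c - ω) := by
    intro p q
    have hp : algebraMap A B p = p • b 0 := by rw [h0, Algebra.smul_def, mul_one]
    rw [hp, map_add, map_smul, map_smul]
    simp only [L, hω, Module.Basis.constr_basis]
    simp [h0]
  let σ : B →+* B :=
    { toFun := L
      map_one' := by
        have := hL 1 0
        simpa using this
      map_mul' := fun x y => by
        obtain ⟨p, q, rfl⟩ := exists_coords b h0 x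
        obtain ⟨r, s, rfl⟩ := exists_coords b h0 y
        have e : (algebraMap A B p + q • ω) * (algebraMap A B r + s • ω) =
            algebraMap A B (p * r + q * s * d) + (p * s + q * r + q * s * c) • ω := by
          simp only [Algebra.smul_def, map_add, map_mul]
          linear_combination (algebraMap A B q * algebraMap A B s) * hdc'
        rw [← hω, e, hL, hL, hL]
        simp only [Algebra.smul_def, map_add, map_mul]
        linear_combination (-(algebraMap A B q * algebraMap A B s)) * hdc'
      map_zero' := map_zero L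
      map_add' := map_add L }
  have hσ : ∀ p q : A, σ (algebraMap A B p + q • ω) = algebraMap A B p + q • (algebraMap A B c - ω) := hL
  refine ⟨σ, ⟨fun a => ?_, fun x => ?_⟩, fun x => ?_, fun x hx => ?_⟩
  · have := hσ a 0
    simpa using this
  · obtain ⟨p, q, rfl⟩ := exists_coords b h0 x
    refine ⟨2 * p + q * c, ?_⟩
    rw [hσ]
    simp only [Algebra.smul_def, map_add, map_mul, map_ofNat]
    ring
  · obtain ⟨p, q, rfl⟩ := exists_coords b h0 x
    rw [hσ]
    have e : algebraMap A B p + q • (algebraMap A B c - ω) = algebraMap A B (p + q * c) + (-q) • ω := by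
      simp only [Algebra.smul_def, map_add, map_mul, map_neg]; ring
    rw [e, hσ]
    simp only [Algebra.smul_def, map_add, map_mul, map_neg]; ring
  · obtain ⟨p, q, rfl⟩ := exists_coords b h0 x
    rw [hσ] at hx
    have h3 : algebraMap A B (q * c) + (-(2 * q)) • ω = 0 := by
      simp only [Algebra.smul_def, map_mul, map_neg, map_ofNat] at hx ⊢
      linear_combination hx
    have h4 : (2 : A) * q = 2 * 0 := by rw [mul_zero]; exact neg_eq_zero.mp (eq_zero_of_coords b h0 h3).2
    exact ⟨p, by rw [h2.mul_left_cancel h4, zero_smul, add_zero]⟩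

/-- A quadratic algebra with a conjugation stays one after localization. -/
theorem isQuadratic_localization (hB : IsQuadratic A B) (M : Submonoid A) (A' B' : Type u) [CommRing A'] [CommRing B']
    [Algebra A A'] [IsLocalization M A'] [Algebra B B'] [Algebra A B'] [IsScalarTower A B B']
    [Algebra A' B'] [IsScalarTower A A' B'] [IsLocalization (Algebra.algebraMapSubmonoid B M) B'] :
    IsQuadratic A' B' := by
  obtain ⟨b, h0⟩ := hB
  exact ⟨b.localizationLocalization A' M B', by rw [Module.Basis.localizationLocalization_apply, h0, map_one]⟩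

/-- Near every prime a projective algebra of rank two is quadratic. -/
theorem exists_isQuadratic_away [Module.Finite A B] [Module.Flat A B] [Module.FinitePresentation A B]
    (hrk : ∀ p : PrimeSpectrum A, Module.rankAtStalk B p = 2) (p : PrimeSpectrum A) :
    ∃ a ∉ p.asIdeal, IsQuadratic (Localization.Away a) (Localization (Algebra.algebraMapSubmonoid B (Submonoid.powers a))) := by
  haveI : Module.Free (Localization.AtPrime p.asIdeal) (LocalizedModule p.asIdeal.primeCompl B) :=
    Module.free_of_flat_of_isLocalRing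
  obtain ⟨a, ha, hfree⟩ := Module.FinitePresentation.exists_free_localizedModule_powers p.asIdeal.primeCompl
    (LocalizedModule.mkLinearMap p.asIdeal.primeCompl B) (Localization.AtPrime p.asIdeal)
  let A₁ := Localization.Away a
  let B₁ := Localization (Algebra.algebraMapSubmonoid B (Submonoid.powers a))
  haveI : Module.Free A₁ (LocalizedModule (Submonoid.powers a) B) := hfree.1
  let eB : LocalizedModule (Submonoid.powers a) B ≃ₗ[A₁] B₁ :=
    (IsLocalizedModule.linearEquiv (Submonoid.powers a) (LocalizedModule.mkLinearMap _ B)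
      (IsScalarTower.toAlgHom A B B₁).toLinearMap).extendScalarsOfIsLocalization (Submonoid.powers a) A₁
  haveI : Module.Free A₁ B₁ := Module.Free.of_equiv eB
  haveI : Module.Finite A₁ (LocalizedModule (Submonoid.powers a) B) :=
    Module.Finite.of_isLocalizedModule (Submonoid.powers a) (LocalizedModule.mkLinearMap _ B)
  haveI : Module.Finite A₁ B₁ := Module.Finite.equiv eB
  have hne : (PrimeSpectrum.comap (algebraMap A A₁)) ⁻¹' {p} ≠ ∅ := by
    have : p ∈ Set.range (PrimeSpectrum.comap (algebraMap A A₁)) := by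
      rw [PrimeSpectrum.localization_away_comap_range A₁ a]; exact ha
    obtain ⟨P, hP⟩ := this
    exact Set.nonempty_iff_ne_empty.mp ⟨P, hP⟩
  obtain ⟨P, hP⟩ := Set.nonempty_iff_ne_empty.mpr hne
  haveI : Nontrivial A₁ := ⟨0, 1, fun h => P.isPrime.ne_top (Ideal.eq_top_iff_one _ |>.mpr (h ▸ P.asIdeal.zero_mem))⟩
  have hr : Module.finrank A₁ B₁ = 2 := by
    rw [← eB.finrank_eq]
    exact hfree.2.trans (hrk p)
  let b : Module.Basis (Fin 2) A₁ B₁ := Module.finBasisOfFinrankEq A₁ B₁ hr
  -- a coordinate of `1` which is a unit at `p`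
  have h1 : ∃ i, b.repr 1 i ∉ P.asIdeal := by
    by_contra hc
    push Not at hc
    have hmem : ∀ x : B₁, x ∈ P.asIdeal.map (algebraMap A₁ B₁) := fun x => by
      have e : x = ∑ i, b.repr 1 i • (b i * x) := by
        simp_rw [← smul_mul_assoc]; rw [← Finset.sum_mul, b.sum_repr, one_mul]
      rw [e]
      refine Ideal.sum_mem _ fun i _ => ?_
      rw [Algebra.smul_def]
      exact Ideal.mul_mem_right _ _ (Ideal.mem_map_of_mem _ (hc i))
    have hsmul : (⊤ : Submodule A₁ B₁) ≤ P.asIdeal • (⊤ : Submodule A₁ B₁) := fun x _ => by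
      rw [Ideal.smul_top_eq_map, Submodule.restrictScalars_mem]; exact hmem x
    have hb0 : b 0 ∈ P.asIdeal • (⊤ : Submodule A₁ B₁) := hsmul trivial
    have hall : ∀ y ∈ P.asIdeal • (⊤ : Submodule A₁ B₁), b.repr y 0 ∈ P.asIdeal := fun y hy =>
      Submodule.smul_induction_on hy (fun r hr m _ => by
        rw [map_smul, Finsupp.smul_apply, smul_eq_mul]; exact Ideal.mul_mem_right _ _ hr)
        (fun u v hu hv => by rw [map_add, Finsupp.add_apply]; exact add_mem hu hv)
    have := hall _ hb0
    rw [b.repr_self, Finsupp.single_eq_same] at this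
    exact P.isPrime.ne_top (P.asIdeal.eq_top_iff_one.mpr this)
  obtain ⟨i, hi⟩ := h1
  obtain ⟨⟨r, s⟩, hrs⟩ := IsLocalization.surj (Submonoid.powers a) (b.repr 1 i)
  refine ⟨a * r, ?_, ?_⟩
  · intro h
    rcases p.isPrime.mem_or_mem h with h | h
    · exact ha h
    · have hr' : algebraMap A A₁ r ∈ P.asIdeal := by
        have : r ∈ P.asIdeal.comap (algebraMap A A₁) := by
          rw [← PrimeSpectrum.comap_asIdeal, hP]; exact h
        exact this
      dsimp only at hrs
      rw [← hrs] at hr'
      rcases P.isPrime.mem_or_mem hr' with h' | h'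
      · exact hi h'
      · exact P.isPrime.ne_top (Ideal.eq_top_of_isUnit_mem _ h' (IsLocalization.map_units A₁ s))
  let M₂ := Submonoid.powers (a * r)
  let A₂ := Localization.Away (a * r)
  let B₂ := Localization (Algebra.algebraMapSubmonoid B M₂)
  have hau : IsUnit (algebraMap A A₂ a) :=
    isUnit_of_mul_isUnit_left (by rw [← map_mul]; exact IsLocalization.Away.algebraMap_isUnit (a * r))
  have hru : IsUnit (algebraMap A A₂ r) :=
    isUnit_of_mul_isUnit_right (x := algebraMap A A₂ a) (by rw [← map_mul]; exact IsLocalization.Away.algebraMap_isUnit (a * r))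
  let φ : A₁ →+* A₂ := IsLocalization.Away.lift a hau
  letI : Algebra A₁ A₂ := φ.toAlgebra
  haveI : IsScalarTower A A₁ A₂ := IsScalarTower.of_algebraMap_eq fun x => (IsLocalization.Away.lift_eq a hau x).symm
  let ψ : B₁ →+* B₂ := IsLocalization.lift (M := Algebra.algebraMapSubmonoid B (Submonoid.powers a)) (g := algebraMap B B₂) (by
    rintro ⟨_, _, ⟨n, rfl⟩, rfl⟩
    show IsUnit (algebraMap B B₂ (algebraMap A B (a ^ n)))
    rw [← IsScalarTower.algebraMap_apply A B B₂, IsScalarTower.algebraMap_apply A A₂ B₂, map_pow, map_pow]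
    exact (hau.map _).pow n)
  have hψ : ∀ (x : A₁) (z : B₁), ψ (x • z) = φ x • ψ z := by
    intro x z
    rw [Algebra.smul_def, map_mul, Algebra.smul_def]
    congr 1
    have : ψ.comp (algebraMap A₁ B₁) = (algebraMap A₂ B₂).comp φ := by
      refine IsLocalization.ringHom_ext (Submonoid.powers a) (RingHom.ext fun w => ?_)
      simp only [RingHom.comp_apply, φ, ψ]
      rw [← IsScalarTower.algebraMap_apply A A₁ B₁, IsScalarTower.algebraMap_apply A B B₁, IsLocalization.lift_eq,
        IsLocalization.Away.lift_eq, ← IsScalarTower.algebraMap_apply, ← IsScalarTower.algebraMap_apply]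
    exact RingHom.congr_fun this x
  have hci : IsUnit (φ (b.repr 1 i)) := by
    have h := congrArg φ hrs
    rw [map_mul] at h
    simp only [φ, IsLocalization.Away.lift_eq] at h
    refine isUnit_of_mul_isUnit_left (y := algebraMap A A₂ (s : A)) ?_
    rw [h]; exact hru
  obtain ⟨u, hu⟩ := hci
  let j : Fin 2 := if i = 0 then 1 else 0
  let w : Fin 2 → B₂ := ![1, ψ (b j)]
  have hgen : ∀ l, ψ (b l) ∈ Submodule.span A₂ (Set.range w) := by
    have hj : ψ (b j) ∈ Submodule.span A₂ (Set.range w) := Submodule.subset_span ⟨1, rfl⟩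
    have hone : (1 : B₂) ∈ Submodule.span A₂ (Set.range w) := Submodule.subset_span ⟨0, rfl⟩
    have hsum : (1 : B₂) = φ (b.repr 1 i) • ψ (b i) + φ (b.repr 1 j) • ψ (b j) := by
      rw [← map_one ψ, ← hψ, ← hψ, ← map_add]
      congr 1
      conv_lhs => rw [← b.sum_repr 1]
      rw [Fin.sum_univ_two]
      fin_cases i <;> simp [j, add_comm]
    have hi' : ψ (b i) ∈ Submodule.span A₂ (Set.range w) := by
      have e : ψ (b i) = (↑u⁻¹ : A₂) • ((1 : B₂) - φ (b.repr 1 j) • ψ (b j)) := by
        rw [hsum, add_sub_cancel_right, ← hu, smul_smul, Units.inv_mul, one_smul]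
      rw [e]
      exact Submodule.smul_mem _ _ (sub_mem hone (Submodule.smul_mem _ _ hj))
    intro l
    fin_cases i <;> fin_cases l <;> simp [j] at hi' hj ⊢ <;> assumption
  have hspan : ⊤ ≤ Submodule.span A₂ (Set.range w) := by
    intro z _
    obtain ⟨⟨x, t⟩, hxt⟩ := IsLocalization.surj (Algebra.algebraMapSubmonoid B M₂) z
    dsimp only at hxt
    obtain ⟨_, n, hn, ht⟩ := t
    obtain ⟨v, hv⟩ : IsUnit (algebraMap A A₂ n) := IsLocalization.map_units A₂ (⟨n, hn⟩ : M₂)
    have hx : algebraMap B B₂ x ∈ Submodule.span A₂ (Set.range w) := by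
      have : algebraMap B B₂ x = ψ (algebraMap B B₁ x) := (IsLocalization.lift_eq _ x).symm
      rw [this, ← b.sum_repr (algebraMap B B₁ x), map_sum]
      exact Submodule.sum_mem _ fun l _ => by rw [hψ]; exact Submodule.smul_mem _ _ (hgen l)
    have e : z = (↑v⁻¹ : A₂) • algebraMap B B₂ x := by
      rw [← hxt]
      simp only [← ht]
      rw [← IsScalarTower.algebraMap_apply A B B₂, IsScalarTower.algebraMap_apply A A₂ B₂, ← hv, mul_comm z,
        ← Algebra.smul_def, smul_smul, Units.inv_mul, one_smul]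
    rw [e]
    exact Submodule.smul_mem _ _ hx
  letI : Algebra A₁ B₂ := ((algebraMap A₂ B₂).comp φ).toAlgebra
  haveI : IsScalarTower A₁ A₂ B₂ := IsScalarTower.of_algebraMap_eq fun _ => rfl
  haveI : IsScalarTower A A₁ B₂ := IsScalarTower.of_algebraMap_eq fun x => by
    rw [IsScalarTower.algebraMap_apply A₁ A₂ B₂, ← IsScalarTower.algebraMap_apply A A₁ A₂,
      ← IsScalarTower.algebraMap_apply A A₂ B₂]
  let ψl : B₁ →ₗ[A₁] B₂ :=
    { toFun := ψ
      map_add' := map_add ψ
      map_smul' := fun x z => by rw [RingHom.id_apply, hψ, ← algebraMap_smul A₂ x (ψ z)]; rfl }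
  have hB₁ : IsBaseChange A₁ (IsScalarTower.toAlgHom A B B₁).toLinearMap :=
    IsLocalizedModule.isBaseChange (Submonoid.powers a) A₁ _
  have hB₂ : IsBaseChange A₂ (IsScalarTower.toAlgHom A B B₂).toLinearMap :=
    IsLocalizedModule.isBaseChange M₂ A₂ _
  have hbc : IsBaseChange A₂ ψl := by
    refine IsBaseChange.of_comp hB₁ ?_
    have e : (ψl.restrictScalars A).comp (IsScalarTower.toAlgHom A B B₁).toLinearMap =
        (IsScalarTower.toAlgHom A B B₂).toLinearMap := LinearMap.ext fun x => by simp only [LinearMap.comp_apply, AlgHom.toLinearMap_apply, IsScalarTower.toAlgHom_apply, LinearMap.coe_restrictScalars]; exact IsLocalization.lift_eq _ x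
    rw [e]
    exact hB₂
  let bb : Module.Basis (Fin 2) A₂ B₂ := hbc.basis b
  haveI : Module.Finite A₂ B₂ := Module.Finite.of_basis bb
  let Φ : B₂ →ₗ[A₂] B₂ := bb.constr A₂ w
  have hΦ : Function.Surjective Φ := by
    rw [← LinearMap.range_eq_top, bb.constr_range]
    exact top_le_iff.mp hspan
  let e : B₂ ≃ₗ[A₂] B₂ := LinearEquiv.ofBijective Φ ⟨OrzechProperty.injective_of_surjective_endomorphism Φ hΦ, hΦ⟩
  refine ⟨bb.map e, ?_⟩
  simp [e, Φ, w]

end Groth.Agent.DblCovLib
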