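import Groth.Agent.DblCovLib.Algebra

/-! # The conjugation of a double cover -/

set_option autoImplicit false
set_option backward.isDefEq.respectTransparency false

universe u

open CategoryTheory CategoryTheory.Limits AlgebraicGeometry

namespace Groth.Agent.DblCovLib

theorem isQuadratic_of_equiv {A B A' B' : Type u} [CommRing A] [CommRing B] [Algebra A B] [CommRing A'] [CommRing B']
    [Algebra A' B'] (e : A ≃+* A') (e' : B ≃+* B') (h : ∀ a, e' (algebraMap A B a) = algebraMap A' B' (e a))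
    (hB : IsQuadratic A B) : IsQuadratic A' B' := by
  obtain ⟨b, h0⟩ := hB
  have hli : LinearIndependent A' (e' ∘ b) := by
    rw [Fintype.linearIndependent_iff]
    intro g hg i
    have : ∑ j, e.symm (g j) • b j = 0 := by
      apply e'.injective
      rw [map_sum, map_zero, ← hg]
      refine Finset.sum_congr rfl fun j _ => ?_
      rw [Algebra.smul_def, map_mul, h, RingEquiv.apply_symm_apply, Function.comp_apply, Algebra.smul_def]
    have := (Fintype.linearIndependent_iff.mp b.linearIndependent) _ this i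
    simpa using congrArg e this
  have hsp : ⊤ ≤ Submodule.span A' (Set.range (e' ∘ b)) := by
    intro z _
    obtain ⟨x, rfl⟩ := e'.surjective z
    rw [← b.sum_repr x, map_sum]
    refine Submodule.sum_mem _ fun j _ => ?_
    rw [Algebra.smul_def, map_mul, h, ← Algebra.smul_def]
    exact Submodule.smul_mem _ _ (Submodule.subset_span ⟨j, rfl⟩)
  exact ⟨Module.Basis.mk hli hsp, by simp [h0]⟩

variable {X Y : Scheme.{u}} (f : X ⟶ Y)

/-- An affine open of the base over which the cover is quadratic. -/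
def Good (U : Y.Opens) : Prop :=
  IsAffineOpen U ∧ (letI := (f.app U).hom.toAlgebra; IsQuadratic Γ(Y, U) Γ(X, f ⁻¹ᵁ U))

/-- The conjugation over an open, as a ring map. -/
def IsConjOn (U : Y.Opens) (σ : Γ(X, f ⁻¹ᵁ U) →+* Γ(X, f ⁻¹ᵁ U)) : Prop :=
  (letI := (f.app U).hom.toAlgebra; IsConj (A := Γ(Y, U)) σ) ∧ (∀ x, σ (σ x) = x) ∧
    ∀ x, σ x = x → x ∈ Set.range (f.app U)

variable {f}

theorem isUnit_two (h2 : IsUnit (2 : Γ(Y, ⊤))) (U : Y.Opens) : IsUnit (2 : Γ(Y, U)) := by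
  have := h2.map (Y.presheaf.map (homOfLE (le_top : U ≤ ⊤)).op).hom
  rwa [map_ofNat] at this

theorem exists_isConjOn (h2 : IsUnit (2 : Γ(Y, ⊤))) {U : Y.Opens} (hU : Good f U) : ∃ σ, IsConjOn f U σ := by
  letI := (f.app U).hom.toAlgebra
  obtain ⟨σ, h1, h3, h4⟩ := exists_conj hU.2 (isUnit_two h2 U)
  exact ⟨σ, h1, h3, h4⟩

theorem isConjOn_unique (h2 : IsUnit (2 : Γ(Y, ⊤))) {U : Y.Opens} (hU : Good f U) {σ τ} (hσ : IsConjOn f U σ)
    (hτ : IsConjOn f U τ) : σ = τ := by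
  letI := (f.app U).hom.toAlgebra
  exact IsConj.unique_of_basis hU.2 (isUnit_two h2 U) hσ.1 hτ.1 hσ.2.2 hτ.2.2

/-- Restriction of sections over preimages. -/
noncomputable abbrev res (f : X ⟶ Y) {U D : Y.Opens} (h : D ≤ U) : Γ(X, f ⁻¹ᵁ U) ⟶ Γ(X, f ⁻¹ᵁ D) :=
  X.presheaf.map (homOfLE (f.preimage_mono h)).op

theorem res_app {U D : Y.Opens} (h : D ≤ U) (a : Γ(Y, U)) :
    res f h (f.app U a) = f.app D (Y.presheaf.map (homOfLE h).op a) :=
  (congr($(f.naturality (homOfLE h).op).hom a)).symm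

section Basic

variable [IsAffineHom f] {U : Y.Opens} (hU : IsAffineOpen U) (a : Γ(Y, U)) {D : Y.Opens} (hD : D ≤ U)
  (heq : D = Y.basicOpen a)

include hU hD heq in
theorem isLocalization_res :
    letI := (res f hD).hom.toAlgebra
    letI := (f.app U).hom.toAlgebra
    IsLocalization (Algebra.algebraMapSubmonoid Γ(X, f ⁻¹ᵁ U) (Submonoid.powers a)) Γ(X, f ⁻¹ᵁ D) := by
  letI := (res f hD).hom.toAlgebra
  letI := (f.app U).hom.toAlgebra
  have e : f ⁻¹ᵁ D = X.basicOpen (f.app U a) := by rw [heq, Scheme.preimage_basicOpen]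
  have := (hU.preimage f).isLocalization_of_eq_basicOpen (f.app U a) (homOfLE (f.preimage_mono hD)) e
  rw [Algebra.algebraMapSubmonoid, Submonoid.map_powers]
  exact this

include hU hD heq in
theorem good_basicOpen (hq : Good f U) : Good f D := by
  refine ⟨heq ▸ hU.basicOpen a, ?_⟩
  letI := (f.app U).hom.toAlgebra
  letI := (f.app D).hom.toAlgebra
  letI := (res f hD).hom.toAlgebra
  letI := (Y.presheaf.map (homOfLE hD).op).hom.toAlgebra
  letI : Algebra Γ(Y, U) Γ(X, f ⁻¹ᵁ D) := ((res f hD).hom.comp (f.app U).hom).toAlgebra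
  haveI : IsScalarTower Γ(Y, U) Γ(X, f ⁻¹ᵁ U) Γ(X, f ⁻¹ᵁ D) := IsScalarTower.of_algebraMap_eq fun _ => rfl
  haveI : IsScalarTower Γ(Y, U) Γ(Y, D) Γ(X, f ⁻¹ᵁ D) := IsScalarTower.of_algebraMap_eq fun x => res_app hD x
  haveI : IsLocalization (Submonoid.powers a) Γ(Y, D) := hU.isLocalization_of_eq_basicOpen a (homOfLE hD) heq
  haveI := isLocalization_res (f := f) hU a hD heq
  exact isQuadratic_localization hq.2 (Submonoid.powers a) _ _

include hU hD heq in
theorem conj_comp_res (h2 : IsUnit (2 : Γ(Y, ⊤))) (hq : Good f U) {σ τ} (hσ : IsConjOn f U σ) (hτ : IsConjOn f D τ)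
    (x : Γ(X, f ⁻¹ᵁ U)) : τ (res f hD x) = res f hD (σ x) := by
  letI := (f.app U).hom.toAlgebra
  letI := (f.app D).hom.toAlgebra
  letI := (res f hD).hom.toAlgebra
  letI := (Y.presheaf.map (homOfLE hD).op).hom.toAlgebra
  letI : Algebra Γ(Y, U) Γ(X, f ⁻¹ᵁ D) := ((res f hD).hom.comp (f.app U).hom).toAlgebra
  haveI : IsScalarTower Γ(Y, U) Γ(X, f ⁻¹ᵁ U) Γ(X, f ⁻¹ᵁ D) := IsScalarTower.of_algebraMap_eq fun _ => rfl
  haveI : IsScalarTower Γ(Y, U) Γ(Y, D) Γ(X, f ⁻¹ᵁ D) := IsScalarTower.of_algebraMap_eq fun y => res_app hD y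
  haveI : IsLocalization (Submonoid.powers a) Γ(Y, D) := hU.isLocalization_of_eq_basicOpen a (homOfLE hD) heq
  haveI := isLocalization_res (f := f) hU a hD heq
  obtain ⟨b, h0⟩ := hq.2
  obtain ⟨e, he⟩ := hσ.1.2 (b 1)
  obtain ⟨e', he'⟩ := hτ.1.2 (res f hD (b 1))
  suffices h : τ (res f hD (b 1)) = res f hD (σ (b 1)) by
    obtain ⟨p, q, rfl⟩ := exists_coords b h0 x
    have h1 : ∀ y : Γ(Y, U), τ (res f hD (f.app U y)) = res f hD (f.app U y) := fun y => by
      rw [res_app]; exact hτ.1.1 _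
    rw [Algebra.smul_def]
    simp only [RingHom.algebraMap_toAlgebra, map_add, map_mul]
    rw [h1, h1, h, show σ (f.app U p) = f.app U p from hσ.1.1 p, show σ (f.app U q) = f.app U q from hσ.1.1 q]
  -- both conjugates satisfy the quadratic equation of the generator
  obtain ⟨d, c, hdc⟩ := exists_coords b h0 (b 1 * b 1)
  have key : ∀ {A B : Type u} [CommRing A] [CommRing B] [Algebra A B] (β : Module.Basis (Fin 2) A B) (ρ : B →+* B),
      β 0 = 1 → IsUnit (2 : A) → IsConj (A := A) ρ → ∀ u v : A, β 1 * β 1 = algebraMap A B u + v • β 1 →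
        ρ (β 1) = algebraMap A B v - β 1 := by
    intro A B _ _ _ β ρ hβ hu2 hρ u v huv
    obtain ⟨w, hw⟩ := hρ.2 (β 1)
    have hρω : ρ (β 1) = algebraMap A B w - β 1 := by rw [hw]; ring
    have h1 := congrArg ρ huv
    simp only [Algebra.smul_def, map_add, map_mul, hρ.1, hρω] at h1
    have h3 : algebraMap A B (w * w - v * w) + (2 * v - 2 * w) • β 1 = 0 := by
      simp only [Algebra.smul_def, map_sub, map_mul, map_ofNat]
      rw [Algebra.smul_def] at huv
      linear_combination h1 - huv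
    have : w = v := by
      refine hu2.mul_left_cancel ?_
      linear_combination -(eq_zero_of_coords β hβ h3).2
    rw [hρω, this]
  let bD : Module.Basis (Fin 2) Γ(Y, D) Γ(X, f ⁻¹ᵁ D) := b.localizationLocalization Γ(Y, D) (Submonoid.powers a) _
  have hb : ∀ i, bD i = res f hD (b i) := fun i => Module.Basis.localizationLocalization_apply _ _ _ _ i
  rw [key b σ h0 (isUnit_two h2 U) hσ.1 d c hdc]
  have hdc' : res f hD (b 1) * res f hD (b 1) =
      algebraMap Γ(Y, D) Γ(X, f ⁻¹ᵁ D) (algebraMap Γ(Y, U) Γ(Y, D) d) + algebraMap Γ(Y, U) Γ(Y, D) c • res f hD (b 1) := by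
    rw [← map_mul, hdc]
    simp only [Algebra.smul_def, map_add, map_mul, RingHom.algebraMap_toAlgebra, res_app]
  have := key bD τ (by rw [hb, h0, map_one]) (isUnit_two h2 D) hτ.1 (algebraMap Γ(Y, U) Γ(Y, D) d)
    (algebraMap Γ(Y, U) Γ(Y, D) c) (by rw [hb]; exact hdc')
  rw [hb] at this
  rw [this, map_sub]
  congr 1
  simp only [RingHom.algebraMap_toAlgebra, res_app]

end Basic

/-- Good opens form a basis. -/
theorem exists_good_le [IsFinite f] [Flat f] [LocallyOfFinitePresentation f] (hrk : ∀ y : Y, f.finrank y = 2)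
    (y : Y) (W : Y.Opens) (hy : y ∈ W) : ∃ U : Y.Opens, y ∈ U ∧ U ≤ W ∧ Good f U := by
  obtain ⟨_, ⟨U, hU, rfl⟩, hyU, hUW⟩ := Y.isBasis_affineOpens.exists_subset_of_mem_open hy W.2
  replace hU : IsAffineOpen U := hU
  letI := (f.app U).hom.toAlgebra
  haveI hfin : Module.Finite Γ(Y, U) Γ(X, f ⁻¹ᵁ U) := f.finite_app U hU
  haveI : Module.Flat Γ(Y, U) Γ(X, f ⁻¹ᵁ U) := by
    have := Flat.flat_appLE f hU (hU.preimage f) le_rfl
    rwa [← Scheme.Hom.app_eq_appLE] at this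
  haveI : Algebra.FinitePresentation Γ(Y, U) Γ(X, f ⁻¹ᵁ U) := by
    have := f.finitePresentation_appLE hU (hU.preimage f) le_rfl
    rwa [← Scheme.Hom.app_eq_appLE] at this
  haveI : Module.FinitePresentation Γ(Y, U) Γ(X, f ⁻¹ᵁ U) := Module.FinitePresentation.of_finite_of_finitePresentation _ _
  have H : IsPullback (hU.preimage f).fromSpec (Spec.map (f.app U)) f hU.fromSpec := by
    refine (IsOpenImmersion.isPullback (Spec.map (f.app U)) (hU.preimage f).fromSpec hU.fromSpec f ?_ ?_).flip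
    · rw [Scheme.Hom.app_eq_appLE]; exact (IsAffineOpen.SpecMap_appLE_fromSpec f hU (hU.preimage f) le_rfl).symm
    · rw [IsAffineOpen.opensRange_fromSpec, IsAffineOpen.opensRange_fromSpec]
  have hr : ∀ p : PrimeSpectrum Γ(Y, U), Module.rankAtStalk Γ(X, f ⁻¹ᵁ U) p = 2 := fun p => by
    rw [← hrk (hU.fromSpec p), ← Scheme.Hom.finrank_of_isPullback _ _ _ _ H,
      Scheme.Hom.finrank_SpecMap_eq_finrank (f.finite_app U hU)]
    · rw [← RingHom.finrank_algebraMap]; rfl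
    · exact RingHom.flat_algebraMap_iff.mpr inferInstance
  obtain ⟨a, ha, hq⟩ := exists_isQuadratic_away hr (hU.primeIdealOf ⟨y, hyU⟩)
  have hle : Y.basicOpen a ≤ U := Y.basicOpen_le a
  refine ⟨Y.basicOpen a, ?_, hle.trans hUW, hU.basicOpen a, ?_⟩
  · have : hU.primeIdealOf ⟨y, hyU⟩ ∈ hU.fromSpec ⁻¹ᵁ Y.basicOpen a := by
      rw [hU.fromSpec_preimage_basicOpen]; exact ha
    rw [Scheme.Hom.mem_preimage, hU.fromSpec_primeIdealOf] at this
    exact this
  letI := (f.app (Y.basicOpen a)).hom.toAlgebra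
  letI := (res f hle).hom.toAlgebra
  letI := (Y.presheaf.map (homOfLE hle).op).hom.toAlgebra
  haveI : IsLocalization (Submonoid.powers a) Γ(Y, Y.basicOpen a) := hU.isLocalization_of_eq_basicOpen a (homOfLE hle) rfl
  haveI := isLocalization_res (f := f) hU a hle rfl
  let e := (IsLocalization.algEquiv (Submonoid.powers a) (Localization.Away a) Γ(Y, Y.basicOpen a)).toRingEquiv
  let e' := (IsLocalization.algEquiv (Algebra.algebraMapSubmonoid Γ(X, f ⁻¹ᵁ U) (Submonoid.powers a))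
    (Localization (Algebra.algebraMapSubmonoid Γ(X, f ⁻¹ᵁ U) (Submonoid.powers a))) Γ(X, f ⁻¹ᵁ Y.basicOpen a)).toRingEquiv
  refine isQuadratic_of_equiv e e' (fun x => ?_) hq
  have : e'.toRingHom.comp (algebraMap (Localization.Away a) _) =
      (algebraMap Γ(Y, Y.basicOpen a) Γ(X, f ⁻¹ᵁ Y.basicOpen a)).comp e.toRingHom := by
    refine IsLocalization.ringHom_ext (Submonoid.powers a) (RingHom.ext fun z => ?_)
    simp only [RingHom.comp_apply, RingEquiv.toRingHom_eq_coe, RingEquiv.coe_toRingHom, e, e']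
    rw [← IsScalarTower.algebraMap_apply Γ(Y, U) (Localization.Away a),
      IsScalarTower.algebraMap_apply Γ(Y, U) Γ(X, f ⁻¹ᵁ U) (Localization (Algebra.algebraMapSubmonoid Γ(X, f ⁻¹ᵁ U) (Submonoid.powers a)))]
    simp only [AlgEquiv.toRingEquiv_eq_coe, AlgEquiv.coe_ringEquiv, AlgEquiv.commutes]
    simp only [RingHom.algebraMap_toAlgebra]
    exact res_app hle z
  exact RingHom.congr_fun this x

/-- Gluing of morphisms given on opens. -/
theorem exists_glue {X Z : Scheme.{u}} {ι : Type u} (V : ι → X.Opens) (hV : ∀ x : X, ∃ i, x ∈ V i)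
    (g : ∀ i, (V i).toScheme ⟶ Z)
    (h : ∀ (i j : ι) (x : X), x ∈ V i → x ∈ V j → ∃ (W : X.Opens) (hi : W ≤ V i) (hj : W ≤ V j),
      x ∈ W ∧ X.homOfLE hi ≫ g i = X.homOfLE hj ≫ g j) :
    ∃ σ : X ⟶ Z, ∀ i, (V i).ι ≫ σ = g i := by
  let 𝒰 : X.OpenCover := X.openCoverOfIsOpenCover V (TopologicalSpace.IsOpenCover.mk
    (eq_top_iff.mpr fun x _ => TopologicalSpace.Opens.mem_iSup.mpr (hV x)))
  have hc : ∀ i j, pullback.fst (𝒰.f i) (𝒰.f j) ≫ g i = pullback.snd (𝒰.f i) (𝒰.f j) ≫ g j := by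
    intro i j
    change pullback.fst (V i).ι (V j).ι ≫ g i = pullback.snd (V i).ι (V j).ι ≫ g j
    refine Scheme.hom_ext_of_forall _ _ fun z => ?_
    obtain ⟨W, hi, hj, hzW, he⟩ := h i j ((pullback.fst (V i).ι (V j).ι ≫ (V i).ι) z)
      (pullback.fst (V i).ι (V j).ι z).2
      (by rw [pullback.condition]; exact (pullback.snd (V i).ι (V j).ι z).2)
    let Q := (pullback.fst (V i).ι (V j).ι ≫ (V i).ι) ⁻¹ᵁ W
    refine ⟨Q, hzW, ?_⟩
    have hr : Set.range (Q.ι ≫ pullback.fst (V i).ι (V j).ι ≫ (V i).ι).base ⊆ Set.range W.ι.base := by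
      rw [Scheme.Opens.range_ι]
      rintro _ ⟨q, rfl⟩
      exact q.2
    let l := IsOpenImmersion.lift W.ι _ hr
    have h1 : Q.ι ≫ pullback.fst (V i).ι (V j).ι = l ≫ X.homOfLE hi := by
      rw [← cancel_mono (V i).ι, Category.assoc, Category.assoc, Scheme.homOfLE_ι, IsOpenImmersion.lift_fac]
    have h2 : Q.ι ≫ pullback.snd (V i).ι (V j).ι = l ≫ X.homOfLE hj := by
      rw [← cancel_mono (V j).ι, Category.assoc, Category.assoc, Scheme.homOfLE_ι, IsOpenImmersion.lift_fac,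
        pullback.condition]
    rw [← Category.assoc, h1, ← Category.assoc, h2, Category.assoc, Category.assoc, he]
  exact ⟨𝒰.glueMorphisms g hc, fun i => 𝒰.ι_glueMorphisms g hc i⟩

/-- The conjugation of a double cover. -/
theorem exists_involution [IsFinite f] [Flat f] [LocallyOfFinitePresentation f] (hrk : ∀ y : Y, f.finrank y = 2)
    (h2 : IsUnit (2 : Γ(Y, ⊤))) :
    ∃ σ : X ⟶ X, σ ≫ f = f ∧ σ ≫ σ = 𝟙 X ∧ ∀ (U : Y.Opens), Good f U →
      ∃ (s : Γ(X, f ⁻¹ᵁ U) →+* Γ(X, f ⁻¹ᵁ U)) (e : f ⁻¹ᵁ U ≤ σ ⁻¹ᵁ (f ⁻¹ᵁ U)),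
        IsConjOn f U s ∧ ∀ x, σ.appLE (f ⁻¹ᵁ U) (f ⁻¹ᵁ U) e x = s x := by
  classical
  let ι := {U : Y.Opens // Good f U}
  choose s hs using fun U : ι => exists_isConjOn h2 U.2
  let V : ι → X.Opens := fun U => f ⁻¹ᵁ U.1
  let hA : ∀ U : ι, IsAffineOpen (V U) := fun U => U.2.1.preimage f
  let g : ∀ U : ι, (V U).toScheme ⟶ X := fun U =>
    (V U).toSpecΓ ≫ Spec.map (CommRingCat.ofHom (s U)) ≫ (hA U).fromSpec
  have hres : ∀ (U D : ι) (hle : D.1 ≤ U.1) (a : Γ(Y, U.1)), D.1 = Y.basicOpen a →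
      X.homOfLE (f.preimage_mono hle) ≫ g U = g D := by
    intro U D hle a ha
    have hc : CommRingCat.ofHom (s U) ≫ res f hle = res f hle ≫ CommRingCat.ofHom (s D) :=
      CommRingCat.hom_ext (RingHom.ext fun x => (conj_comp_res U.2.1 a hle ha h2 U.2 (hs U) (hs D) x).symm)
    simp only [g]
    have hn : X.homOfLE (f.preimage_mono hle) ≫ (V U).toSpecΓ = (V D).toSpecΓ ≫ Spec.map (res f hle) :=
      (Scheme.Opens.toSpecΓ_SpecMap_presheaf_map (V D) (V U) (f.preimage_mono hle)).symm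
    rw [reassoc_of% hn, ← Spec.map_comp_assoc, hc, Spec.map_comp_assoc,
      (hA U).map_fromSpec (hA D) (homOfLE (f.preimage_mono hle)).op]
  obtain ⟨σ, hσ⟩ := exists_glue V (fun x => by
      obtain ⟨U, hx, -, hU⟩ := exists_good_le hrk (f x) ⊤ trivial
      exact ⟨⟨U, hU⟩, hx⟩) g (fun U U' x hx hx' => by
      obtain ⟨a, b, hab, hxa⟩ := exists_basicOpen_le_affine_inter U.2.1 U'.2.1 (f x) ⟨hx, hx'⟩
      let D : ι := ⟨Y.basicOpen a, good_basicOpen U.2.1 a (Y.basicOpen_le a) rfl U.2⟩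
      refine ⟨V D, f.preimage_mono (Y.basicOpen_le a), f.preimage_mono ((le_of_eq hab).trans (Y.basicOpen_le b)), hxa, ?_⟩
      rw [hres U D (Y.basicOpen_le a) a rfl, hres U' D ((le_of_eq hab).trans (Y.basicOpen_le b)) b hab])
  have hfrom : ∀ U : ι, (hA U).fromSpec ≫ σ = Spec.map (CommRingCat.ofHom (s U)) ≫ (hA U).fromSpec := by
    intro U
    have h1 : (hA U).fromSpec = (hA U).isoSpec.inv ≫ (V U).ι := rfl
    conv_lhs => rw [h1, Category.assoc, hσ U]
    simp only [g]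
    rw [← IsAffineOpen.isoSpec_hom (hA U), Iso.inv_hom_id_assoc]
  have hcov : ∀ {Z : Scheme.{u}} (p q : X ⟶ Z), (∀ U : ι, (hA U).fromSpec ≫ p = (hA U).fromSpec ≫ q) → p = q := by
    intro Z p q h
    refine Scheme.hom_ext_of_forall _ _ fun x => ?_
    obtain ⟨U, hx, -, hU⟩ := exists_good_le hrk (f x) ⊤ trivial
    refine ⟨f ⁻¹ᵁ U, hx, ?_⟩
    have h1 := h ⟨U, hU⟩
    rw [show (hA ⟨U, hU⟩).fromSpec = (hA ⟨U, hU⟩).isoSpec.inv ≫ (f ⁻¹ᵁ U).ι from rfl, Category.assoc,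
      Category.assoc] at h1
    exact (cancel_epi _).mp h1
  have hσf : σ ≫ f = f := by
    refine hcov _ _ fun U => ?_
    rw [← Category.assoc, hfrom U, Category.assoc, ← IsAffineOpen.SpecMap_appLE_fromSpec f U.2.1 (hA U) le_rfl,
      ← Spec.map_comp_assoc]
    congr 2
    rw [← Scheme.Hom.app_eq_appLE]
    exact CommRingCat.hom_ext (RingHom.ext fun y => (hs U).1.1 y)
  refine ⟨σ, hσf, ?_, fun U hU => ?_⟩
  · refine hcov _ _ fun U => ?_
    rw [← Category.assoc, hfrom U, Category.assoc, hfrom U, ← Spec.map_comp_assoc, Category.comp_id]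
    have : CommRingCat.ofHom (s U) ≫ CommRingCat.ofHom (s U) = 𝟙 _ :=
      CommRingCat.hom_ext (RingHom.ext (hs U).2.1)
    rw [this, Spec.map_id, Category.id_comp]
  · let U' : ι := ⟨U, hU⟩
    have e : f ⁻¹ᵁ U ≤ σ ⁻¹ᵁ (f ⁻¹ᵁ U) := fun x hx => by
      show (σ ≫ f) x ∈ U
      rw [hσf]; exact hx
    refine ⟨s U', e, hs U', fun x => ?_⟩
    have h1 := IsAffineOpen.SpecMap_appLE_fromSpec σ (hA U') (hA U') e
    rw [hfrom U', cancel_mono, Spec.map_inj] at h1
    exact RingHom.congr_fun (congrArg CommRingCat.Hom.hom h1) x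

end Groth.Agent.DblCovLib
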